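import Groth.Agent.QFDom.Chart
import Mathlib.RingTheory.Flat.FaithfullyFlat.Algebra
import Mathlib.RingTheory.Spectrum.Prime.Chevalley
import Mathlib.RingTheory.AdjoinRoot
import Mathlib.RingTheory.Finiteness.FinitePresentationLocal
import Mathlib.RingTheory.Jacobson.Ring
import Mathlib.RingTheory.Flat.TorsionFree

/-! Faithfully flat algebras of finite presentation are dominated by quasi-finite ones. -/

set_option autoImplicit false

noncomputable section

set_option synthInstance.maxHeartbeats 400000

namespace Groth.Agent.QFDom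

open TensorProduct

universe u

/-- A finite free algebra realizing prescribed integral elements. -/
theorem exists_free_lift {A L : Type u} [CommRing A] [CommRing L] [Algebra A L] : ∀ (n : ℕ)
    (μ : Fin n → Polynomial A), (∀ i, (μ i).Monic) → ∀ (y : Fin n → L), (∀ i, Polynomial.aeval (y i) (μ i) = 0) →
    ∃ (B : Type u) (_ : CommRing B) (_ : Algebra A B), Module.Free A B ∧ Module.Finite A B ∧
      ∃ (ρ : B →ₐ[A] L) (r : Fin n → B), ∀ i, ρ (r i) = y i
  | 0, _, _, _, _ => ⟨A, inferInstance, inferInstance, inferInstance, inferInstance, Algebra.ofId A L,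
      fun i => i.elim0, fun i => i.elim0⟩
  | n + 1, μ, hμ, y, hy => by
    obtain ⟨B, _, _, hfree, hfin, ρ, r, hr⟩ := exists_free_lift n (fun i => μ i.castSucc) (fun i => hμ _)
      (fun i => y i.castSucc) (fun i => hy _)
    let q := (μ (Fin.last n)).map (algebraMap A B)
    have hq : q.Monic := (hμ _).map _
    haveI : Module.Free B (AdjoinRoot q) := hq.free_adjoinRoot
    haveI : Module.Finite B (AdjoinRoot q) := hq.finite_adjoinRoot
    refine ⟨AdjoinRoot q, inferInstance, inferInstance, Module.Free.trans (S := B), Module.Finite.trans B _,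
      AdjoinRoot.liftAlgHom q ρ (y (Fin.last n)) ?_,
      Fin.lastCases (motive := fun _ => AdjoinRoot q) (AdjoinRoot.root q) (fun i => AdjoinRoot.of q (r i)), fun i => ?_⟩
    · show q.eval₂ ρ.toRingHom _ = 0
      rw [Polynomial.eval₂_map, AlgHom.toRingHom_eq_coe, AlgHom.comp_algebraMap, ← Polynomial.aeval_def]
      exact hy _
    · induction i using Fin.lastCases with
      | last => simp
      | cast i => simp [hr i]

/-- Clearing denominators of finitely many elements of a residue field. -/
theorem exists_away_lift {R : Type u} [CommRing R] (p : Ideal R) [p.IsPrime] (Z : Finset p.ResidueField) :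
    ∃ (c : R) (_ : c ∉ p) (ρ : Localization.Away c →ₐ[R] p.ResidueField), ∀ z ∈ Z, z ∈ ρ.range := by
  classical
  have h1 : ∀ z : p.ResidueField, ∃ r s : R, s ∉ p ∧ z * algebraMap R _ s = algebraMap R _ r := by
    intro z
    obtain ⟨a, b, hb, rfl⟩ := IsFractionRing.div_surjective (A := R ⧸ p) z
    obtain ⟨r, rfl⟩ := Ideal.Quotient.mk_surjective a
    obtain ⟨s, rfl⟩ := Ideal.Quotient.mk_surjective b
    have hs : s ∉ p := fun hs => nonZeroDivisors.ne_zero hb (Ideal.Quotient.eq_zero_iff_mem.2 hs)
    refine ⟨r, s, hs, ?_⟩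
    rw [IsScalarTower.algebraMap_apply R (R ⧸ p) p.ResidueField s, IsScalarTower.algebraMap_apply R (R ⧸ p) p.ResidueField r]
    exact div_mul_cancel₀ _ (IsFractionRing.to_map_ne_zero_of_mem_nonZeroDivisors hb)
  choose r s hs hrs using h1
  refine ⟨∏ z ∈ Z, s z, fun h => ?_, ?_⟩
  · obtain ⟨z, -, hz⟩ := (Ideal.IsPrime.prod_mem_iff.1 h)
    exact hs z hz
  have hu : IsUnit (algebraMap R p.ResidueField (∏ z ∈ Z, s z)) := by
    rw [map_prod]
    exact isUnit_iff_ne_zero.2 (Finset.prod_ne_zero_iff.2 fun z _ h => hs z (by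
      rwa [← RingHom.mem_ker, Ideal.ker_algebraMap_residueField] at h))
  let ρ : Localization.Away (∏ z ∈ Z, s z) →ₐ[R] p.ResidueField :=
    { IsLocalization.Away.lift (g := algebraMap R p.ResidueField) (∏ z ∈ Z, s z) hu with
      commutes' := fun x => IsLocalization.Away.lift_eq _ _ _ }
  refine ⟨ρ, fun z hz => ?_⟩
  have hsu : IsUnit (algebraMap R (Localization.Away (∏ z ∈ Z, s z)) (s z)) :=
    isUnit_of_dvd_unit (map_dvd _ (Finset.dvd_prod_of_mem s hz)) (IsLocalization.Away.algebraMap_isUnit _)
  refine ⟨algebraMap R _ (r z) * (hsu.unit⁻¹ : _ˣ), ?_⟩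
  show ρ _ = z
  have h2 : ρ (algebraMap R _ (r z) * (hsu.unit⁻¹ : _ˣ)) * ρ (algebraMap R _ (s z)) = ρ (algebraMap R _ (r z)) := by
    rw [← map_mul, mul_assoc, IsUnit.val_inv_mul, mul_one]
  rw [AlgHom.commutes, AlgHom.commutes, ← hrs z] at h2
  exact mul_right_cancel₀ (fun h => hs z (by rwa [← RingHom.mem_ker, Ideal.ker_algebraMap_residueField] at h)) h2

/-- A quasi-finite flat algebra dominating `S` and meeting a given fibre. -/
theorem exists_dominating_at (R S : Type u) [CommRing R] [CommRing S] [Algebra R S] [Module.Flat R S]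
    [Algebra.FinitePresentation R S] (P : Ideal S) [P.IsPrime] :
    ∃ (T : Type u) (_ : CommRing T) (_ : Algebra R T), Algebra.QuasiFinite R T ∧ Module.Flat R T ∧
      Algebra.FinitePresentation R T ∧ Nonempty (S →ₐ[R] T) ∧
        ∃ Q : Ideal T, Q.IsPrime ∧ Q.comap (algebraMap R T) = P.comap (algebraMap R S) := by
  classical
  obtain ⟨d, a, ψ, hqf, hfl, Q₀, hQ₀, hQp⟩ := exists_chart R S P
  let p := P.comap (algebraMap R S)
  haveI : p.IsPrime := Ideal.comap_isPrime _ _
  let T := Localization.Away a
  haveI : Algebra.FinitePresentation R T :=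
    haveI : Algebra.FinitePresentation S T := IsLocalization.Away.finitePresentation a
    Algebra.FinitePresentation.trans R S T
  let F := p.Fiber T
  haveI : Nontrivial F := by
    let q := PrimeSpectrum.preimageEquivFiber R T ⟨p, inferInstance⟩ ⟨⟨Q₀, hQ₀⟩, PrimeSpectrum.ext hQp⟩
    exact nontrivial_of_ne 0 1 fun h => q.isPrime.ne_top ((Ideal.eq_top_iff_one _).2 (h ▸ zero_mem _))
  obtain ⟨M, hM⟩ := Ideal.exists_maximal F
  let L := F ⧸ M
  letI : Field L := Ideal.Quotient.field M
  haveI : Module.Finite p.ResidueField L := finite_of_finite_type_of_isJacobsonRing p.ResidueField L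
  let τ : T →ₐ[R] L := (Ideal.Quotient.mkₐ R M).comp
    (Algebra.TensorProduct.includeRight : T →ₐ[R] p.ResidueField ⊗[R] T)
  let y : Fin d → L := fun i => τ (ψ (MvPolynomial.X ⟨i⟩))
  let μ : Fin d → Polynomial p.ResidueField := fun i => minpoly p.ResidueField (y i)
  obtain ⟨c, hc, ρ, hρ⟩ := exists_away_lift p (Finset.univ.biUnion fun i => (μ i).coeffs)
  have hμ : ∀ i, ∃ ν : Polynomial (Localization.Away c), ν.Monic ∧ ν.map ρ.toRingHom = μ i := by
    intro i
    have hmem : μ i ∈ Polynomial.lifts ρ.toRingHom := by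
      rw [Polynomial.lifts_iff_coeff_lifts]
      intro k
      by_cases h : (μ i).coeff k = 0
      · exact ⟨0, by rw [map_zero, h]⟩
      · obtain ⟨z, hz⟩ := hρ _ (Finset.mem_biUnion.2 ⟨i, Finset.mem_univ _, Polynomial.coeff_mem_coeffs h⟩)
        exact ⟨z, hz⟩
    obtain ⟨ν, hν, -, hmon⟩ := Polynomial.lifts_and_degree_eq_and_monic hmem
      (minpoly.monic (Algebra.IsIntegral.isIntegral _))
    exact ⟨ν, hmon, hν⟩
  choose ν hνm hν using hμ
  let Rc := Localization.Away c
  letI : Algebra Rc L := ((algebraMap p.ResidueField L).comp ρ.toRingHom).toAlgebra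
  haveI : IsScalarTower R Rc L := IsScalarTower.of_algebraMap_eq fun r => by
    show _ = algebraMap p.ResidueField L (ρ (algebraMap R Rc r))
    rw [AlgHom.commutes, ← IsScalarTower.algebraMap_apply]
  obtain ⟨B, _, _, hfree, hfinB, ρB, r, hr⟩ := exists_free_lift d ν hνm y fun i => by
    rw [Polynomial.aeval_def, show algebraMap Rc L = (algebraMap p.ResidueField L).comp ρ.toRingHom from rfl,
      ← Polynomial.eval₂_map, hν i, ← Polynomial.aeval_def]
    exact minpoly.aeval _ _
  letI : Algebra R B := ((algebraMap Rc B).comp (algebraMap R Rc)).toAlgebra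
  haveI : IsScalarTower R Rc B := IsScalarTower.of_algebraMap_eq fun _ => rfl
  let θ : MvPolynomial (ULift.{u} (Fin d)) R →ₐ[R] B := MvPolynomial.aeval fun i => r i.down
  letI : Algebra (MvPolynomial (ULift.{u} (Fin d)) R) B := θ.toRingHom.toAlgebra
  letI : Algebra (MvPolynomial (ULift.{u} (Fin d)) R) T := ψ.toRingHom.toAlgebra
  haveI : IsScalarTower R (MvPolynomial (ULift.{u} (Fin d)) R) B :=
    IsScalarTower.of_algebraMap_eq fun x => (θ.commutes x).symm
  haveI : IsScalarTower R (MvPolynomial (ULift.{u} (Fin d)) R) T :=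
    IsScalarTower.of_algebraMap_eq fun x => (ψ.commutes x).symm
  haveI : Algebra.QuasiFinite (MvPolynomial (ULift.{u} (Fin d)) R) T := hqf
  haveI : Module.Flat (MvPolynomial (ULift.{u} (Fin d)) R) T := hfl
  haveI : Algebra.FinitePresentation (MvPolynomial (ULift.{u} (Fin d)) R) T :=
    Algebra.FinitePresentation.of_restrict_scalars_finitePresentation R _ T
  let T' := B ⊗[MvPolynomial (ULift.{u} (Fin d)) R] T
  refine ⟨T', inferInstance, inferInstance, ?_, ?_, ?_,
    ⟨((Algebra.TensorProduct.includeRight : T →ₐ[MvPolynomial (ULift.{u} (Fin d)) R] T').restrictScalars R).comp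
      (IsScalarTower.toAlgHom R S T)⟩, ?_⟩
  · haveI : Algebra.QuasiFinite R Rc := Algebra.QuasiFinite.of_isLocalization (S := R) (Submonoid.powers c)
    haveI : Algebra.QuasiFinite R B := Algebra.QuasiFinite.trans R Rc B
    exact Algebra.QuasiFinite.trans R B T'
  · haveI : Module.Flat R Rc := IsLocalization.flat Rc (Submonoid.powers c)
    haveI : Module.Flat R B := Module.Flat.trans R Rc B
    exact Module.Flat.trans R B T'
  · haveI : Algebra.FinitePresentation R Rc := IsLocalization.Away.finitePresentation c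
    haveI : Module.FinitePresentation Rc B := Module.finitePresentation_of_projective Rc B
    haveI : Algebra.FinitePresentation Rc B := inferInstance
    haveI : Algebra.FinitePresentation R B := Algebra.FinitePresentation.trans R Rc B
    exact Algebra.FinitePresentation.trans R B T'
  · letI : Algebra (MvPolynomial (ULift.{u} (Fin d)) R) L := (τ.comp ψ).toRingHom.toAlgebra
    have hag : (ρB.restrictScalars R).comp θ = τ.comp ψ := by
      refine MvPolynomial.algHom_ext fun i => ?_
      show ρB (θ (MvPolynomial.X i)) = τ (ψ (MvPolynomial.X i))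
      rw [MvPolynomial.aeval_X, hr]
    let β : B →ₐ[MvPolynomial (ULift.{u} (Fin d)) R] L :=
      { ρB.toRingHom with commutes' := fun x => AlgHom.congr_fun hag x }
    let γ : T →ₐ[MvPolynomial (ULift.{u} (Fin d)) R] L := { τ.toRingHom with commutes' := fun _ => rfl }
    let Φ : T' →+* L := (Algebra.TensorProduct.lift β γ fun _ _ => Commute.all _ _).toRingHom
    refine ⟨RingHom.ker Φ, RingHom.ker_isPrime Φ, ?_⟩
    have hΦ : ∀ x : R, Φ (algebraMap R T' x) = algebraMap p.ResidueField L (algebraMap R p.ResidueField x) := by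
      intro x
      show Algebra.TensorProduct.lift β γ _ ((algebraMap R B x) ⊗ₜ (1 : T)) = _
      rw [Algebra.TensorProduct.lift_tmul, map_one, mul_one]
      show ρB (algebraMap Rc B (algebraMap R Rc x)) = _
      rw [AlgHom.commutes]
      show algebraMap p.ResidueField L (ρ (algebraMap R Rc x)) = _
      rw [AlgHom.commutes]
    ext x
    rw [Ideal.mem_comap, RingHom.mem_ker, hΦ, map_eq_zero_iff _ (algebraMap p.ResidueField L).injective,
      ← RingHom.mem_ker, Ideal.ker_algebraMap_residueField]

theorem exists_dominating (R S : Type u) [CommRing R] [CommRing S] [Algebra R S] [Module.FaithfullyFlat R S]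
    [Algebra.FinitePresentation R S] :
    ∃ (S' : Type u) (_ : CommRing S') (_ : Algebra R S'), Algebra.QuasiFinite R S' ∧ Algebra.FiniteType R S' ∧
      Module.FaithfullyFlat R S' ∧ Algebra.FinitePresentation R S' ∧ Nonempty (S →ₐ[R] S') := by
  classical
  have h : ∀ p : PrimeSpectrum R, ∃ (T : Type u) (_ : CommRing T) (_ : Algebra R T),
      Algebra.QuasiFinite R T ∧ Module.Flat R T ∧ Algebra.FinitePresentation R T ∧ Nonempty (S →ₐ[R] T) ∧
        p ∈ Set.range (PrimeSpectrum.comap (algebraMap R T)) := by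
    intro p
    obtain ⟨P, hP⟩ := PrimeSpectrum.comap_surjective_of_faithfullyFlat (B := S) p
    obtain ⟨T, _, _, h1, h2, h3, h4, Q, hQ, hQP⟩ := exists_dominating_at R S P.asIdeal
    exact ⟨T, _, _, h1, h2, h3, h4, ⟨Q, hQ⟩, PrimeSpectrum.ext (hQP.trans (congrArg PrimeSpectrum.asIdeal hP))⟩
  choose T iC iA hqf hfl hfp hhom hmem using h
  have hopen : ∀ p, IsOpen (Set.range (PrimeSpectrum.comap (algebraMap R (T p)))) := fun p =>
    (PrimeSpectrum.isOpenMap_comap_of_hasGoingDown_of_finitePresentation (R := R) (S := T p)).isOpen_range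
  obtain ⟨I, hI⟩ := isCompact_univ.elim_finite_subcover _ hopen
    (fun p _ => Set.mem_iUnion.2 ⟨p, hmem p⟩)
  let S' := ∀ i : I, T i.1
  haveI : Module.Flat R S' := by
    haveI : ∀ i : I, Module.Flat R (T i.1) := fun i => hfl i.1
    exact Module.Flat.of_linearEquiv (DirectSum.linearEquivFunOnFintype R I fun i => T i.1).symm
  haveI : Algebra.FinitePresentation R S' := inferInstance
  refine ⟨S', inferInstance, inferInstance, ⟨fun P hP => ?_⟩, inferInstance, ?_, inferInstance,
    ⟨Pi.algHom (R := R) (A := fun i : I => T i.1) (fun i => (hhom i.1).some)⟩⟩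
  · haveI : ∀ i : I, Module.Finite P.ResidueField (P.ResidueField ⊗[R] T i.1) := fun i =>
      (hqf i.1).finite_fiber P
    exact Module.Finite.equiv (TensorProduct.piRight R P.ResidueField P.ResidueField fun i : I => T i.1).symm
  · refine Module.FaithfullyFlat.of_comap_surjective fun p => ?_
    obtain ⟨i, hi, q, hq⟩ := Set.mem_iUnion₂.1 (hI (Set.mem_univ p))
    refine ⟨PrimeSpectrum.comap (Pi.evalRingHom (fun i : I => T i.1) ⟨i, hi⟩) q, ?_⟩
    rw [← hq]
    rfl

end Groth.Agent.QFDom
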