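import Groth.Agent.CMChart.Locus
import Mathlib.RingTheory.QuasiFinite.Basic
import Mathlib.AlgebraicGeometry.Morphisms.QuasiFinite

/-! Ring-level quasi-finite flat charts of flat algebras of finite presentation. -/

set_option autoImplicit false

noncomputable section

namespace Groth.Agent.QFDom

open CategoryTheory AlgebraicGeometry Topology

universe u

theorem exists_chart (R S : Type u) [CommRing R] [CommRing S] [Algebra R S] [Module.Flat R S]
    [Algebra.FinitePresentation R S] (P : Ideal S) [hP : P.IsPrime] :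
    ∃ (d : ℕ) (a : S) (ψ : MvPolynomial (ULift.{u} (Fin d)) R →ₐ[R] Localization.Away a),
      ψ.toRingHom.QuasiFinite ∧ ψ.toRingHom.Flat ∧
        ∃ Q : Ideal (Localization.Away a), Q.IsPrime ∧
          Q.comap (algebraMap R (Localization.Away a)) = P.comap (algebraMap R S) := by
  let f : Spec (CommRingCat.of S) ⟶ Spec (CommRingCat.of R) := Spec.map (CommRingCat.ofHom (algebraMap R S))
  haveI : LocallyOfFinitePresentation f := by
    rw [HasRingHomProperty.Spec_iff (P := @LocallyOfFinitePresentation)]
    exact RingHom.finitePresentation_algebraMap.2 inferInstance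
  haveI : Flat f := by
    rw [HasRingHomProperty.Spec_iff (P := @Flat)]
    exact RingHom.flat_algebraMap_iff.2 inferInstance
  let x₀ : Spec (CommRingCat.of S) := (⟨P, hP⟩ : PrimeSpectrum S)
  haveI : Nonempty (f.fiber (f x₀)) := ⟨f.asFiber x₀⟩
  obtain ⟨w, hw⟩ := (CMChart.dense_isCMAt_fibre f (f x₀)).nonempty
  let x := f.fiberι (f x₀) w
  have hfx : f x = f x₀ := by
    have : x ∈ Set.range (f.fiberι (f x₀)) := ⟨w, rfl⟩
    rwa [Scheme.Hom.range_fiberι] at this
  obtain ⟨d, U, g, hxU, hg, hqf, hfl, -⟩ := CMChart.exists_cm_nhd f (x := x) hw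
  obtain ⟨_, ⟨a, rfl⟩, hxa, haU⟩ :=
    (PrimeSpectrum.isTopologicalBasis_basic_opens (R := S)).exists_subset_of_mem_open (a := (x : PrimeSpectrum S))
      (show (x : PrimeSpectrum S) ∈ ((U : Set (Spec (CommRingCat.of S))) : Set (PrimeSpectrum S)) from hxU) U.2
  let ja : Spec (CommRingCat.of (Localization.Away a)) ⟶ Spec (CommRingCat.of S) :=
    Spec.map (CommRingCat.ofHom (algebraMap S (Localization.Away a)))
  haveI : IsOpenImmersion ja := IsOpenImmersion.of_isLocalization a
  have hr : Set.range ja ⊆ Set.range U.ι := by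
    rw [Scheme.Opens.range_ι]
    rintro _ ⟨y, rfl⟩
    refine haU ?_
    have : PrimeSpectrum.comap (algebraMap S (Localization.Away a)) y ∈ Set.range (PrimeSpectrum.comap (algebraMap S (Localization.Away a))) := ⟨y, rfl⟩
    rwa [PrimeSpectrum.localization_away_comap_range (Localization.Away a) a] at this
  let j := IsOpenImmersion.lift U.ι ja hr
  have hj : j ≫ U.ι = ja := IsOpenImmersion.lift_fac _ _ _
  haveI : IsOpenImmersion (j ≫ U.ι) := by rw [hj]; infer_instance
  haveI : IsOpenImmersion j := IsOpenImmersion.of_comp j U.ι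
  haveI := hqf
  haveI := hfl
  let e := AffineSpace.SpecIso (ULift.{u} (Fin d)) (CommRingCat.of R)
  let φ := j ≫ g ≫ e.hom
  have hover : e.hom ≫ Spec.map (CommRingCat.ofHom MvPolynomial.C) =
      AffineSpace (ULift.{u} (Fin d)) (Spec (CommRingCat.of R)) ↘ Spec (CommRingCat.of R) := by
    rw [← AffineSpace.SpecIso_inv_over (n := ULift.{u} (Fin d)) (CommRingCat.of R), Iso.hom_inv_id_assoc]
  have hφ : φ ≫ Spec.map (CommRingCat.ofHom MvPolynomial.C) =
      Spec.map (CommRingCat.ofHom (algebraMap R (Localization.Away a))) := by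
    simp only [φ, Category.assoc, hover]
    rw [hg, ← Category.assoc, hj, ← Spec.map_comp]
    congr 1
  let ψ₀ := Spec.preimage φ
  have hψ₀ : Spec.map ψ₀ = φ := Spec.map_preimage φ
  have hc : CommRingCat.ofHom MvPolynomial.C ≫ ψ₀ = CommRingCat.ofHom (algebraMap R (Localization.Away a)) :=
    Spec.map_injective (by rw [Spec.map_comp, hψ₀, hφ])
  haveI : Flat φ := inferInstance
  haveI : LocallyQuasiFinite φ := inferInstance
  let ψ : MvPolynomial (ULift.{u} (Fin d)) R →ₐ[R] Localization.Away a :=
    { ψ₀.hom with commutes' := fun r => congrArg (fun k : CommRingCat.of R ⟶ _ => k.hom r) hc }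
  refine ⟨d, a, ψ, ?_, ?_, ?_⟩
  · have h : LocallyQuasiFinite (Spec.map ψ₀) := by rw [hψ₀]; infer_instance
    rw [HasRingHomProperty.Spec_iff (P := @LocallyQuasiFinite)] at h
    exact h
  · have h : Flat (Spec.map ψ₀) := by rw [hψ₀]; infer_instance
    rw [HasRingHomProperty.Spec_iff (P := @Flat)] at h
    exact h
  · have : (x : PrimeSpectrum S) ∈ Set.range (PrimeSpectrum.comap (algebraMap S (Localization.Away a))) := by
      rw [PrimeSpectrum.localization_away_comap_range (Localization.Away a) a]; exact hxa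
    obtain ⟨q, hq⟩ := this
    refine ⟨q.asIdeal, q.isPrime, ?_⟩
    rw [IsScalarTower.algebraMap_eq R S (Localization.Away a), ← Ideal.comap_comap]
    have h1 : q.asIdeal.comap (algebraMap S (Localization.Away a)) = (x : PrimeSpectrum S).asIdeal :=
      congrArg PrimeSpectrum.asIdeal hq
    rw [h1]
    exact congrArg PrimeSpectrum.asIdeal hfx

end Groth.Agent.QFDom
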